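import Groth.Prelude.Def_DRing2
import Groth.Agent.LC.InjNoeth
import Mathlib

/-! `A[x] ⊗ E` has injective dimension at most one. -/

set_option autoImplicit false
set_option backward.isDefEq.respectTransparency false
set_option backward.isDefEq.respectTransparency.types false
set_option linter.style.haveILetI false

universe u

open CategoryTheory Limits Polynomial TensorProduct

attribute [local instance] HasDerivedCategory.standard

namespace H1InjPoly

variable {R : Type u} [CommRing R] {N I0 I1 : Type u} [AddCommGroup N] [Module R N] [AddCommGroup I0] [Module R I0]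
  [AddCommGroup I1] [Module R I1]

theorem hasInjAmplitudeIn_of_sequence [Module.Injective R I0] [Module.Injective R I1] (i : N →ₗ[R] I0) (f : I0 →ₗ[R] I1)
    (hi : Function.Injective i) (hex : Function.Exact i f) (hf : Function.Surjective f) :
    DRing.HasInjAmplitudeIn R 0 1 (Dual.inD R N) := by
  let K : CochainComplex (ModuleCat.{u} R) ℕ :=
    HomologicalComplex.double (ModuleCat.ofHom f) (show (ComplexShape.up ℕ).Rel 0 1 by simp)
  let e0 : K.X 0 ≅ ModuleCat.of R I0 := HomologicalComplex.doubleXIso₀ _ _
  let e1 : K.X 1 ≅ ModuleCat.of R I1 := HomologicalComplex.doubleXIso₁ _ _ zero_ne_one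
  have hd : K.d 0 1 = e0.hom ≫ ModuleCat.ofHom f ≫ e1.inv := HomologicalComplex.double_d _ _ zero_ne_one
  have hz : ∀ n, 2 ≤ n → IsZero (K.X n) := fun n hn =>
    HomologicalComplex.isZero_double_X _ _ n (by omega) (by omega)
  have hinj : ∀ n, Injective (K.X n) := fun n => by
    match n with
    | 0 => exact Injective.of_iso e0.symm ((Module.injective_iff_injective_object R I0).1 inferInstance)
    | 1 => exact Injective.of_iso e1.symm ((Module.injective_iff_injective_object R I1).1 inferInstance)
    | n + 2 => exact (hz (n + 2) (by omega)).injective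
  let g : ModuleCat.of R N ⟶ K.X 0 := ModuleCat.ofHom i ≫ e0.inv
  have hg : g ≫ K.d 0 1 = 0 := by
    rw [hd]
    simp only [g, Category.assoc, Iso.inv_hom_id_assoc]
    rw [← Category.assoc, show ModuleCat.ofHom i ≫ ModuleCat.ofHom f = 0 from
      ModuleCat.hom_ext hex.linearMap_comp_eq_zero, Limits.zero_comp]
  let J : InjectiveResolution (ModuleCat.of R N) :=
    { cocomplex := K
      injective := hinj
      ι := (CochainComplex.fromSingle₀Equiv _ _).symm ⟨g, hg⟩
      quasiIso := ⟨fun n => by
        cases n
        · rw [CochainComplex.quasiIsoAt₀_iff, ShortComplex.quasiIso_iff_of_zeros]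
          · let T : ShortComplex (ModuleCat.{u} R) := ShortComplex.mk (ModuleCat.ofHom i) (ModuleCat.ofHom f)
              (ModuleCat.hom_ext hex.linearMap_comp_eq_zero)
            refine (ShortComplex.exact_and_mono_f_iff_of_iso ?_).2
              (show T.Exact ∧ Mono T.f from ⟨(ShortComplex.ShortExact.moduleCat_exact_iff_function_exact _).2 hex,
                (ModuleCat.mono_iff_injective _).2 hi⟩)
            refine ShortComplex.isoMk (Iso.refl _) e0 e1 ?_ ?_
            · show 𝟙 _ ≫ ModuleCat.ofHom i = ((CochainComplex.fromSingle₀Equiv _ _).symm ⟨g, hg⟩).f 0 ≫ e0.hom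
              rw [CochainComplex.fromSingle₀Equiv_symm_apply_f_zero]
              simp [g]
            · show e0.hom ≫ ModuleCat.ofHom f = K.d 0 1 ≫ e1.hom
              rw [hd]; simp
          all_goals first | rfl | (show K.d 0 0 = 0; exact K.shape 0 0 (fun h => Nat.one_ne_zero h))
        · rename_i n
          rw [quasiIsoAt_iff_exactAt]
          · rw [HomologicalComplex.exactAt_iff' _ n (n + 1) (n + 2) (by simp) (by simp)]
            cases n with
            | zero =>
              refine (ShortComplex.exact_iff_epi _ ((hz 2 le_rfl).eq_of_tgt _ _)).2 ?_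
              show Epi (K.d 0 1)
              rw [hd]
              haveI : Epi (ModuleCat.ofHom f) := (ModuleCat.epi_iff_surjective _).2 hf
              infer_instance
            | succ m => exact ShortComplex.exact_of_isZero_X₂ _ (hz (m + 1 + 1) (by omega))
          · exact CochainComplex.exactAt_succ_single_obj _ _⟩ }
  refine ⟨J.cochainComplex, fun n hn => ?_, fun n => (Module.injective_iff_injective_object R (J.cochainComplex.X n)).2 (inferInstance : Injective (J.cochainComplex.X n)), ⟨?_⟩⟩
  · rcases hn with hn | hn
    · exact CochainComplex.isZero_of_isStrictlyGE _ 0 _ hn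
    · obtain ⟨k, rfl⟩ := Int.eq_ofNat_of_zero_le (show (0 : ℤ) ≤ n by omega)
      exact (hz k (by omega)).of_iso (J.cochainComplexXIso _ k rfl)
  · exact (asIso (DerivedCategory.Q.map J.ι')).symm ≪≫
      ((DerivedCategory.singleFunctorIsoCompQ (ModuleCat.{u} R) 0).app (ModuleCat.of R N)).symm

variable {A : Type u} [CommRing A] {M : Type u} [AddCommGroup M] [Module A M]
  [Module A[X] M] [IsScalarTower A A[X] M]

variable (A M) in
/-- The coinduced module. -/
def Coind : Type u := A[X] →ₗ[A] M

noncomputable instance : AddCommGroup (Coind A M) := inferInstanceAs (AddCommGroup (A[X] →ₗ[A] M))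

/-- The underlying map. -/
def ap (φ : Coind A M) : A[X] →ₗ[A] M := φ

/-- From a map. -/
def mk' (φ : A[X] →ₗ[A] M) : Coind A M := φ

@[ext] theorem ext' {φ ψ : Coind A M} (h : ∀ p, ap φ p = ap ψ p) : φ = ψ := LinearMap.ext h

theorem ap_add (φ ψ : Coind A M) (p : A[X]) : ap (φ + ψ) p = ap φ p + ap ψ p := rfl

noncomputable instance : Module A[X] (Coind A M) where
  smul b φ := mk' (ap φ ∘ₗ LinearMap.mulRight A b)
  one_smul φ := ext' fun p => by show ap φ (p * 1) = ap φ p; rw [mul_one]
  mul_smul b c φ := ext' fun p => by show ap φ (p * (b * c)) = ap φ (p * b * c); rw [mul_assoc]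
  smul_zero b := rfl
  smul_add b φ ψ := rfl
  zero_smul φ := ext' fun p => by show ap φ (p * 0) = 0; rw [mul_zero, map_zero]
  add_smul b c φ := ext' fun p => by show ap φ (p * (b + c)) = ap φ (p * b) + ap φ (p * c); rw [mul_add, map_add]

theorem smul_coind (b : A[X]) (φ : Coind A M) (p : A[X]) : ap (b • φ) p = ap φ (p * b) := rfl

theorem injective_coind [Module.Injective A M] : Module.Injective A[X] (Coind A M) := by
  refine ⟨fun X Y _ _ _ _ i hi g => ?_⟩
  letI := Module.compHom X (algebraMap A A[X])
  letI := Module.compHom Y (algebraMap A A[X])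
  haveI : IsScalarTower A A[X] X := .of_algebraMap_smul fun _ _ => rfl
  haveI : IsScalarTower A A[X] Y := .of_algebraMap_smul fun _ _ => rfl
  let g₀ : X →ₗ[A] M :=
    { toFun := fun x => ap (g x) 1
      map_add' := fun x y => by rw [map_add, ap_add]
      map_smul' := fun r x => by
        show ap (g (algebraMap A A[X] r • x)) 1 = _
        rw [map_smul, smul_coind, one_mul, Algebra.algebraMap_eq_smul_one, map_smul]; rfl }
  obtain ⟨h, hh⟩ := Module.Injective.out (i.restrictScalars A) hi g₀
  let F : Y → Coind A M := fun y => mk'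
    { toFun := fun p => h (p • y)
      map_add' := fun p q => by rw [add_smul, map_add]
      map_smul' := fun r p => by rw [smul_assoc, map_smul]; rfl }
  refine ⟨{ toFun := F
            map_add' := fun y z => ext' fun p => by
              show h (p • (y + z)) = h (p • y) + h (p • z)
              rw [smul_add, map_add]
            map_smul' := fun b y => ext' fun p => by
              show h (p • b • y) = h ((p * b) • y)
              rw [mul_smul] }, fun x => ext' fun p => ?_⟩
  show h (p • i x) = ap (g x) p
  rw [← map_smul, show h (i (p • x)) = g₀ (p • x) from hh _]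
  show ap (g (p • x)) 1 = ap (g x) p
  rw [map_smul, smul_coind, one_mul]

/-- An `A[X]`-module that is `A`-injective has injective dimension at most one. -/
theorem hasInjAmplitudeIn_of_injective [Module.Injective A M] :
    DRing.HasInjAmplitudeIn A[X] 0 1 (Dual.inD A[X] M) := by
  haveI := injective_coind (A := A) (M := M)
  let i : M →ₗ[A[X]] Coind A M :=
    { toFun := fun m => mk' ((LinearMap.toSpanSingleton A[X] M m).restrictScalars A)
      map_add' := fun m n => ext' fun p => by show p • (m + n) = p • m + p • n; rw [smul_add]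
      map_smul' := fun b m => ext' fun p => by show p • b • m = (p * b) • m; rw [mul_smul] }
  let F : Coind A M → Coind A M := fun φ => mk'
    { toFun := fun p => ap φ (X * p) - (X : A[X]) • ap φ p
      map_add' := fun p q => by rw [mul_add, map_add, map_add, smul_add]; abel
      map_smul' := fun r p => by
        rw [mul_smul_comm, map_smul, map_smul, RingHom.id_apply, smul_comm (X : A[X]) r, smul_sub] }
  let f : Coind A M →ₗ[A[X]] Coind A M :=
    { toFun := F
      map_add' := fun φ ψ => ext' fun p => by
        show ap φ (X * p) + ap ψ (X * p) - (X : A[X]) • (ap φ p + ap ψ p) =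
          ap φ (X * p) - (X : A[X]) • ap φ p + (ap ψ (X * p) - (X : A[X]) • ap ψ p)
        rw [smul_add]; abel
      map_smul' := fun b φ => ext' fun p => by
        show ap φ (X * p * b) - (X : A[X]) • ap φ (p * b) = ap φ (X * (p * b)) - (X : A[X]) • ap φ (p * b)
        rw [mul_assoc] }
  refine hasInjAmplitudeIn_of_sequence i f (fun m n h => ?_) (fun φ => ⟨fun hφ => ?_, ?_⟩) fun ψ => ?_
  · have h1 : (1 : A[X]) • m = (1 : A[X]) • n := congrArg (fun φ => ap φ (1 : A[X])) h
    rwa [one_smul, one_smul] at h1
  · refine ⟨ap φ 1, ?_⟩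
    have hX : ∀ p, ap φ (X * p) = (X : A[X]) • ap φ p := fun p =>
      sub_eq_zero.1 (congrArg (fun χ => ap χ p) hφ)
    refine (Polynomial.basisMonomials A).ext fun n => ?_
    rw [Polynomial.coe_basisMonomials]
    show (monomial n (1 : A)) • ap φ 1 = ap φ (monomial n 1)
    induction n with
    | zero => rw [monomial_zero_left, map_one, one_smul]
    | succ n ih => rw [show monomial (n + 1) (1 : A) = X * monomial n 1 from (X_mul_monomial n 1).symm, mul_smul, ih, hX]
  · rintro ⟨m, rfl⟩
    refine ext' fun p => ?_
    show ((X : A[X]) * p) • m - (X : A[X]) • p • m = 0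
    rw [mul_smul, sub_self]
  · let v : ℕ → M := fun n => Nat.rec 0 (fun k w => (X : A[X]) • w + ap ψ (monomial k 1)) n
    refine ⟨mk' ((Polynomial.basisMonomials A).constr ℕ v), (Polynomial.basisMonomials A).ext fun n => ?_⟩
    show (Polynomial.basisMonomials A).constr ℕ v (X * Polynomial.basisMonomials A n) -
      (X : A[X]) • (Polynomial.basisMonomials A).constr ℕ v (Polynomial.basisMonomials A n) = _
    rw [show X * Polynomial.basisMonomials A n = Polynomial.basisMonomials A (n + 1) by
      rw [Polynomial.coe_basisMonomials]; exact X_mul_monomial n 1, Module.Basis.constr_basis, Module.Basis.constr_basis]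
    show (X : A[X]) • v n + ap ψ (monomial n 1) - (X : A[X]) • v n = _
    rw [Polynomial.coe_basisMonomials]
    show _ = ap ψ (monomial n 1)
    abel

omit M [AddCommGroup M] [Module A M] [Module A[X] M] [IsScalarTower A A[X] M] in
theorem injective_poly_tensor [IsNoetherianRing A] (E : Type u) [AddCommGroup E] [Module A E] [Module.Injective A E] :
    Module.Injective A (A[X] ⊗[A] E) := by
  classical
  have : Module.Injective A (DirectSum (ULift.{u} ℕ) fun _ => E) := Groth.Agent.LC.injective_directSum _ fun _ => inferInstance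
  let e1 : A[X] ⊗[A] E ≃ₗ[A] (ℕ →₀ E) := TensorProduct.equivFinsuppOfBasisLeft (Polynomial.basisMonomials A)
  let e : A[X] ⊗[A] E ≃ₗ[A] DirectSum (ULift.{u} ℕ) fun _ => E :=
    e1 ≪≫ₗ Finsupp.domLCongr Equiv.ulift.symm ≪≫ₗ finsuppLEquivDirectSum A E (ULift.{u} ℕ)
  refine ⟨fun X Y _ _ _ _ i hi g => ?_⟩
  obtain ⟨h, hh⟩ := this.out i hi (e.toLinearMap ∘ₗ g)
  exact ⟨e.symm.toLinearMap ∘ₗ h, fun x => by rw [LinearMap.comp_apply, hh]; exact e.symm_apply_apply _⟩

end H1InjPoly
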